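import Mathlib.LinearAlgebra.Trace
import Mathlib.LinearAlgebra.Projection
import Mathlib.RingTheory.Trace.Basic
import Mathlib.RingTheory.FiniteLength
import Mathlib.RingTheory.Length
import Mathlib.RingTheory.LocalRing.ResidueField.Basic

/-! The trace of a finite local algebra is the length times the trace of the residue field. -/

universe u

namespace Groth.Agent.TraceLength

variable {k : Type*} [Field k]

theorem trace_eq_restrict_add_mapQ {M : Type*} [AddCommGroup M] [Module k M] [Module.Finite k M]
    (f : M →ₗ[k] M) (N : Submodule k M) (hN : N ≤ N.comap f) :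
    LinearMap.trace k M f = LinearMap.trace k N (f.restrict fun _ hx => hN hx) +
      LinearMap.trace k (M ⧸ N) (N.mapQ N f hN) := by
  obtain ⟨P, hP⟩ := N.exists_isCompl
  let πN := N.projectionOnto P hP
  let πP := P.projectionOnto N hP.symm
  have hsplit : f = (f ∘ₗ N.subtype) ∘ₗ πN + (f ∘ₗ P.subtype) ∘ₗ πP := by
    ext x
    simp only [LinearMap.add_apply, LinearMap.comp_apply, Submodule.subtype_apply, ← map_add]
    congr 1
    exact (Submodule.projection_add_projection_eq_self hP x).symm
  have e : N.mapQ N f hN = (Submodule.quotientEquivOfIsCompl N P hP).symm.conj (πP ∘ₗ f ∘ₗ P.subtype) := by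
    apply LinearMap.ext
    intro q
    obtain ⟨x, rfl⟩ : ∃ x : P, Submodule.Quotient.mk (x : M) = q :=
      ⟨Submodule.quotientEquivOfIsCompl N P hP q, (Submodule.quotientEquivOfIsCompl N P hP).symm_apply_apply q⟩
    apply (Submodule.quotientEquivOfIsCompl N P hP).injective
    simp [LinearEquiv.conj_apply, Submodule.mapQ_apply, Submodule.quotientEquivOfIsCompl_apply_mk, πP]
    exact (Submodule.projectionOnto_apply_left hP.symm _).symm
  have e' : (f.restrict (fun _ hx => hN hx) : N →ₗ[k] N) = πN ∘ₗ f ∘ₗ N.subtype := by
    apply LinearMap.ext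
    intro x
    exact (Submodule.projectionOnto_apply_left hP ⟨f x, hN x.2⟩).symm
  rw [e, LinearMap.trace_conj', e']
  conv_lhs => rw [hsplit]
  rw [map_add, LinearMap.trace_comp_comm' πN (f ∘ₗ N.subtype), LinearMap.trace_comp_comm' πP (f ∘ₗ P.subtype)]

variable (C : Type u) [CommRing C] [Algebra k C] [IsLocalRing C] [Module.Finite k C]

theorem trace_smul (M : Type u) [AddCommGroup M] [Module C M] (hM : IsFiniteLength C M) :
    ∀ [Module k M] [IsScalarTower k C M] [Module.Finite k M], ∀ x : C,
      LinearMap.trace k M (Algebra.lsmul k k M x) = (Module.length C M).toNat •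
        Algebra.trace k (IsLocalRing.ResidueField C) (IsLocalRing.residue C x) := by
  induction hM with
  | of_subsingleton =>
    intro _ _ _ x
    rw [Module.length_eq_zero, ENat.toNat_zero, zero_smul, Subsingleton.elim (Algebra.lsmul k k _ x) 0,
      map_zero]
  | @of_simple_quotient M _ _ N hs hfl ih =>
    intro _ _ _ x
    let N' : Submodule k M := N.restrictScalars k
    have hN : N' ≤ N'.comap (Algebra.lsmul k k M x) := fun y hy => N.smul_mem x hy
    haveI : Module.Finite k N := inferInstanceAs (Module.Finite k N')
    rw [trace_eq_restrict_add_mapQ _ N' hN]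
    have h1 : LinearMap.trace k N' ((Algebra.lsmul k k M x).restrict fun _ hy => hN hy) =
        (Module.length C N).toNat • Algebra.trace k (IsLocalRing.ResidueField C) (IsLocalRing.residue C x) :=
      ih x
    obtain ⟨I, hI, ⟨e⟩⟩ := isSimpleModule_iff_quot_maximal.mp hs
    obtain rfl := IsLocalRing.eq_maximalIdeal hI
    let e' : (M ⧸ N') ≃ₗ[k] IsLocalRing.ResidueField C :=
      (Submodule.Quotient.restrictScalarsEquiv k N).trans (e.restrictScalars k)
    have h2 : LinearMap.trace k (M ⧸ N') (N'.mapQ N' (Algebra.lsmul k k M x) hN) =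
        Algebra.trace k (IsLocalRing.ResidueField C) (IsLocalRing.residue C x) := by
      rw [Algebra.trace_apply, ← LinearMap.trace_conj' (N'.mapQ N' (Algebra.lsmul k k M x) hN) e']
      congr 1
      apply LinearMap.ext
      intro y
      obtain ⟨q, rfl⟩ := e'.surjective y
      obtain ⟨m, rfl⟩ := Submodule.Quotient.mk_surjective _ q
      rw [LinearEquiv.conj_apply, LinearMap.comp_apply, LinearMap.comp_apply, LinearEquiv.coe_coe,
        LinearEquiv.coe_coe, e'.symm_apply_apply, Submodule.mapQ_apply]
      show (show IsLocalRing.ResidueField C from e (Submodule.Quotient.mk (x • m))) =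
        IsLocalRing.residue C x * (show IsLocalRing.ResidueField C from e (Submodule.Quotient.mk m))
      rw [Submodule.Quotient.mk_smul, map_smul, Algebra.smul_def]
      rfl
    have hlen : (Module.length C M).toNat = (Module.length C N).toNat + 1 := by
      haveI : Module.Finite C (M) := Module.Finite.of_restrictScalars_finite k C M
      haveI : IsArtinianRing C := isArtinian_of_tower k inferInstance
      rw [Module.length_eq_add_of_exact N.subtype N.mkQ N.injective_subtype N.mkQ_surjective
        (LinearMap.exact_subtype_mkQ N), Module.length_eq_one C (M ⧸ N), ENat.toNat_add ?_ ENat.one_ne_top]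
      · rfl
      · exact Module.length_ne_top_iff.mpr hfl
    rw [h1, h2, hlen, add_smul, one_smul]

theorem trace_eq (x : C) :
    Algebra.trace k C x = (Module.length C C).toNat •
      Algebra.trace k (IsLocalRing.ResidueField C) (IsLocalRing.residue C x) := by
  haveI : IsArtinianRing C := isArtinian_of_tower k inferInstance
  haveI : IsNoetherianRing C := IsNoetherianRing.of_finite k C
  rw [← trace_smul C C (isFiniteLength_iff_isNoetherian_isArtinian.mpr ⟨inferInstance, inferInstance⟩) x,
    Algebra.trace_apply]
  rfl

theorem trace_ne_zero_iff :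
    Algebra.trace k C ≠ 0 ↔
      Algebra.IsSeparable k (IsLocalRing.ResidueField C) ∧ ((Module.length C C).toNat : k) ≠ 0 := by
  constructor
  · intro h
    refine ⟨by_contra fun hs => h ?_, fun hn => h ?_⟩
    · ext x; rw [trace_eq, Algebra.trace_eq_zero_of_not_isSeparable hs, LinearMap.zero_apply, smul_zero]; rfl
    · ext x; rw [trace_eq, nsmul_eq_mul, hn, zero_mul]; rfl
  · rintro ⟨hs, hn⟩ h
    haveI : Module.Finite k (IsLocalRing.ResidueField C) :=
      Module.Finite.of_surjective (IsScalarTower.toAlgHom k C (IsLocalRing.ResidueField C)).toLinearMap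
        IsLocalRing.residue_surjective
    refine Algebra.trace_ne_zero k (IsLocalRing.ResidueField C) ?_
    ext y
    obtain ⟨x, rfl⟩ := IsLocalRing.residue_surjective y
    have h1 := trace_eq (k := k) C x
    rw [h, nsmul_eq_mul, LinearMap.zero_apply] at h1
    simpa [hn] using h1.symm

end Groth.Agent.TraceLength
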